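import Cfsg.Agent.Lib.SporadicB.J3.DataT
import Cfsg.Agent.Lib.SporadicB.J3.DataK
import Cfsg.Agent.Lib.SporadicB.J3.DataL
import Cfsg.Agent.Lib.SporadicB.J3.DataP
import Cfsg.Agent.Lib.SporadicB.J3.Chunk

/-! The smaller checks of the certificate for 3.J3. -/

set_option autoImplicit false
set_option Elab.async false

namespace CfsgLib.SporadicB.J3.Data

open Cfsg.Spor
open CfsgLib.SporRecognition.CosetCert (allBelow trace orbStep labStep countLab allPow allPow_append)

noncomputable def gen (a : Nat) : Nat := bif Nat.beq a 0 then s0 else s1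
noncomputable def kgen (a : Nat) : Nat := bif Nat.beq a 0 then kg0 else kg1
noncomputable def tab (a : Nat) : Nat → Nat := bif Nat.beq a 0 then tab0 else tab1
noncomputable def perm (a : Nat) : Nat → Nat := bif Nat.beq a 0 then perm0 else perm1
noncomputable def egen (a : Nat) : Nat := eg a
noncomputable def etab (a : Nat) : Nat → Nat := bif Nat.beq a 0 then etab0 else etab1

noncomputable def treeT (p : Nat) : Bool :=
  treeStep tm gen tvia tsrc 2 p && Nat.beq (tm 0) one9

theorem treeT_ok_0 : allPow 6156 treeT 10 0 = true := by decide +kernel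

theorem treeT_ok_1 : allPow 6156 treeT 10 1024 = true := by decide +kernel

theorem treeT_ok_2 : allPow 6156 treeT 10 2048 = true := by decide +kernel

theorem treeT_ok_3 : allPow 6156 treeT 10 3072 = true := by decide +kernel

theorem treeT_ok_4 : allPow 6156 treeT 10 4096 = true := by decide +kernel

theorem treeT_ok_5 : allPow 6156 treeT 10 5120 = true := by decide +kernel

theorem treeT_ok_6 : allPow 6156 treeT 10 6144 = true := by decide +kernel

theorem treeT_ok_7 : allPow 6156 treeT 10 7168 = true := by decide +kernel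

theorem treeT_ok : allBelow 13 6156 treeT = true :=
  allBelow_of_allPow rfl (allPow_append (allPow_append (allPow_append treeT_ok_0 treeT_ok_1) (allPow_append treeT_ok_2 treeT_ok_3)) (allPow_append (allPow_append treeT_ok_4 treeT_ok_5) (allPow_append treeT_ok_6 treeT_ok_7)))

theorem treeU_ok : allBelow 7 85 (treeStep um kgen uvia usrc 2) = true := by decide +kernel

theorem treeE_ok : allBelow 9 288 (treeStep emx egen evia esrc 2) = true := by decide +kernel

theorem zero_ok : (Nat.beq (um 0) one9 && Nat.beq (emx 0) one9 && Nat.beq (tm 0) one9) = true := by decide +kernel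

theorem closedE_ok : (allBelow 9 288 (closedStep emx (egen 0) etab0 288) &&
    allBelow 9 288 (closedStep emx (egen 1) etab1 288)) = true := by decide +kernel

noncomputable def kStep (i : Nat) : Bool :=
  Nat.blt (utab0 i) 85 && Nat.blt (uke0 i) 288 && eqMul23 kg0 (um i) (um (utab0 i)) (emx (uke0 i)) one9 &&
  Nat.blt (utab1 i) 85 && Nat.blt (uke1 i) 288 && eqMul23 kg1 (um i) (um (utab1 i)) (emx (uke1 i)) one9

theorem kStep_ok : allBelow 7 85 kStep = true := by decide +kernel

theorem kg_ok : (eqMul23 (gen kgS0) (tm kgP0) (tm kgQ0) kg0 one9 &&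
    eqMul23 (gen kgS1) (tm kgP1) (tm kgQ1) kg1 one9) = true := by decide +kernel

theorem eg_ok : (eqMul23 (kgen egGen0) (um egSrc0) (um egTgt0) (egen 0) one9 &&
    eqMul23 (kgen egGen1) (um egSrc1) (um egTgt1) (egen 1) one9) = true := by decide +kernel

theorem sInv_ok : (eqMul s0 s0i one9 && eqMul s1 s1i one9) = true := by decide +kernel

/-- Member `X` of the cover written as coset representative times element of the subgroup. -/
noncomputable def locStep (X q i e : Nat) : Bool :=
  Nat.blt q 6156 && Nat.blt i 85 && Nat.blt e 288 && eqMul23 X one9 (tm q) (um i) (emx e)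

noncomputable def gmStep (j : Nat) : Bool :=
  eqMul (gm j) (gi j) one9 && locStep (gm j) (gq j) (gu j) (ge j)

theorem gm_ok : allBelow 6 43 gmStep = true := by decide +kernel

theorem words_ok : (eqMul (gm 37) (gm 3) s0 && eqMul (gm 21) (gm 30) s1) = true := by
  decide +kernel

noncomputable def p3tab (a : Nat) : Nat → Nat := bif Nat.beq a 0 then p3t0 else p3t1

theorem p3_ok : (Nat.beq (p3 0) one9 &&
    allBelow 10 729 (treeStep p3 p3g p3via p3src 2) &&
    allBelow 10 729 (incStep p3 p3srt 729) &&
    allBelow 3 2 (fun a => locStep (p3g a) (p3q a) (p3u a) (p3e a) &&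
      allBelow 10 729 (closedStep p3 (p3g a) (p3tab a) 729))) = true := by
  decide +kernel

noncomputable def p2tab (a : Nat) : Nat → Nat := bif Nat.beq a 0 then p2t0 else bif Nat.beq a 1 then p2t1 else p2t2

theorem p2_ok : (Nat.beq (p2 0) one9 &&
    allBelow 7 128 (treeStep p2 p2g p2via p2src 3) &&
    allBelow 7 128 (incStep p2 p2srt 128) &&
    allBelow 3 3 (fun a => locStep (p2g a) (p2q a) (p2u a) (p2e a) &&
      allBelow 7 128 (closedStep p2 (p2g a) (p2tab a) 128))) = true := by
  decide +kernel

noncomputable def p5tab (a : Nat) : Nat → Nat := p5t0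

theorem p5_ok : (Nat.beq (p5 0) one9 &&
    allBelow 3 5 (treeStep p5 p5g p5via p5src 1) &&
    allBelow 3 5 (incStep p5 p5srt 5) &&
    allBelow 3 1 (fun a => locStep (p5g a) (p5q a) (p5u a) (p5e a) &&
      allBelow 3 5 (closedStep p5 (p5g a) (p5tab a) 5))) = true := by
  decide +kernel

noncomputable def p17tab (a : Nat) : Nat → Nat := p17t0

theorem p17_ok : (Nat.beq (p17 0) one9 &&
    allBelow 5 17 (treeStep p17 p17g p17via p17src 1) &&
    allBelow 5 17 (incStep p17 p17srt 17) &&
    allBelow 3 1 (fun a => locStep (p17g a) (p17q a) (p17u a) (p17e a) &&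
      allBelow 5 17 (closedStep p17 (p17g a) (p17tab a) 17))) = true := by
  decide +kernel

noncomputable def p19atab (a : Nat) : Nat → Nat := p19at0

theorem p19a_ok : (Nat.beq (p19a 0) one9 &&
    allBelow 5 19 (treeStep p19a p19ag p19avia p19asrc 1) &&
    allBelow 5 19 (incStep p19a p19asrt 19) &&
    allBelow 3 1 (fun a => locStep (p19ag a) (p19aq a) (p19au a) (p19ae a) &&
      allBelow 5 19 (closedStep p19a (p19ag a) (p19atab a) 19))) = true := by
  decide +kernel

noncomputable def p19btab (a : Nat) : Nat → Nat := p19bt0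

theorem p19b_ok : (Nat.beq (p19b 0) one9 &&
    allBelow 5 19 (treeStep p19b p19bg p19bvia p19bsrc 1) &&
    allBelow 5 19 (incStep p19b p19bsrt 19) &&
    allBelow 3 1 (fun a => locStep (p19bg a) (p19bq a) (p19bu a) (p19be a) &&
      allBelow 5 19 (closedStep p19b (p19bg a) (p19btab a) 19))) = true := by
  decide +kernel

noncomputable def p19ctab (a : Nat) : Nat → Nat := p19ct0

theorem p19c_ok : (Nat.beq (p19c 0) one9 &&
    allBelow 5 19 (treeStep p19c p19cg p19cvia p19csrc 1) &&
    allBelow 5 19 (incStep p19c p19csrt 19) &&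
    allBelow 3 1 (fun a => locStep (p19cg a) (p19cq a) (p19cu a) (p19ce a) &&
      allBelow 5 19 (closedStep p19c (p19cg a) (p19ctab a) 19))) = true := by
  decide +kernel

noncomputable def p19dtab (a : Nat) : Nat → Nat := p19dt0

theorem p19d_ok : (Nat.beq (p19d 0) one9 &&
    allBelow 5 19 (treeStep p19d p19dg p19dvia p19dsrc 1) &&
    allBelow 5 19 (incStep p19d p19dsrt 19) &&
    allBelow 3 1 (fun a => locStep (p19dg a) (p19dq a) (p19du a) (p19de a) &&
      allBelow 5 19 (closedStep p19d (p19dg a) (p19dtab a) 19))) = true := by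
  decide +kernel

theorem p19_rel : (eqMul (p19ag 0) (p19bg 0) s0 && eqMul (p19cg 0) (p19dg 0) s1) = true := by decide +kernel

noncomputable def permStep (u : Nat) : Bool :=
  Nat.blt (perm0 u) 6156 && Nat.blt (perm1 u) 6156
  && Nat.beq (trace [tab0, tab1, tab0, tab0, tab1, tab0, tab0, tab1] (perm0 u)) (trace [tab1, tab1, tab0, tab1, tab0, tab0, tab1, tab0, tab1, tab0] u)
  && Nat.beq (trace [tab0, tab1, tab1, tab1, tab1, tab0, tab0, tab1, tab0, tab0] (perm1 u)) (trace [tab0, tab0, tab1, tab1, tab0, tab1, tab0, tab0, tab0, tab1, tab1] u)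

theorem perm_ok_0 : allPow 6156 permStep 10 0 = true := by decide +kernel

theorem perm_ok_1 : allPow 6156 permStep 10 1024 = true := by decide +kernel

theorem perm_ok_2 : allPow 6156 permStep 10 2048 = true := by decide +kernel

theorem perm_ok_3 : allPow 6156 permStep 10 3072 = true := by decide +kernel

theorem perm_ok_4 : allPow 6156 permStep 10 4096 = true := by decide +kernel

theorem perm_ok_5 : allPow 6156 permStep 10 5120 = true := by decide +kernel

theorem perm_ok_6 : allPow 6156 permStep 10 6144 = true := by decide +kernel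

theorem perm_ok_7 : allPow 6156 permStep 10 7168 = true := by decide +kernel

theorem perm_ok : allBelow 13 6156 permStep = true :=
  allBelow_of_allPow rfl (allPow_append (allPow_append (allPow_append perm_ok_0 perm_ok_1) (allPow_append perm_ok_2 perm_ok_3)) (allPow_append (allPow_append perm_ok_4 perm_ok_5) (allPow_append perm_ok_6 perm_ok_7)))

/-- paths from the base point used for the two stabiliser generators -/
theorem path_ok : (Nat.beq (trace [tab0, tab1, tab0, tab0, tab1, tab0, tab0, tab1] 0) kgQ0 && Nat.beq (trace [tab0, tab1, tab1, tab1, tab1, tab0, tab0, tab1, tab0, tab0] 0) kgQ1) = true := by decide +kernel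

noncomputable def labOK (u : Nat) : Bool :=
  labStep perm0 lab u && labStep perm1 lab u && Nat.blt (lab u) 8 && orbStep [perm0, perm1] lab root rk via src 6156 u

theorem lab_ok_0 : allPow 6156 labOK 10 0 = true := by decide +kernel

theorem lab_ok_1 : allPow 6156 labOK 10 1024 = true := by decide +kernel

theorem lab_ok_2 : allPow 6156 labOK 10 2048 = true := by decide +kernel

theorem lab_ok_3 : allPow 6156 labOK 10 3072 = true := by decide +kernel

theorem lab_ok_4 : allPow 6156 labOK 10 4096 = true := by decide +kernel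

theorem lab_ok_5 : allPow 6156 labOK 10 5120 = true := by decide +kernel

theorem lab_ok_6 : allPow 6156 labOK 10 6144 = true := by decide +kernel

theorem lab_ok_7 : allPow 6156 labOK 10 7168 = true := by decide +kernel

theorem lab_ok : allBelow 13 6156 labOK = true :=
  allBelow_of_allPow rfl (allPow_append (allPow_append (allPow_append lab_ok_0 lab_ok_1) (allPow_append lab_ok_2 lab_ok_3)) (allPow_append (allPow_append lab_ok_4 lab_ok_5) (allPow_append lab_ok_6 lab_ok_7)))

theorem size0 : countLab 13 6156 lab 0 = 1 := by decide +kernel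

theorem size1 : countLab 13 6156 lab 1 = 120 := by decide +kernel

theorem size2 : countLab 13 6156 lab 2 = 1360 := by decide +kernel

theorem size3 : countLab 13 6156 lab 3 = 510 := by decide +kernel

theorem size4 : countLab 13 6156 lab 4 = 2040 := by decide +kernel

theorem size5 : countLab 13 6156 lab 5 = 1360 := by decide +kernel

theorem size6 : countLab 13 6156 lab 6 = 680 := by decide +kernel

theorem size7 : countLab 13 6156 lab 7 = 85 := by decide +kernel

theorem stab_ok : (Nat.beq (trace [perm0, perm0, perm1, perm0, perm1, perm1, perm0, perm0, perm0] 4) 4 && Nat.beq (trace [perm1, perm1, perm0, perm0, perm0, perm0, perm0, perm1, perm0] 4) 4 &&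
    !Nat.beq (trace [perm0, perm0, perm1, perm0, perm1, perm1, perm0, perm0, perm0] 1) 1 && !Nat.beq (trace [perm1, perm1, perm0, perm0, perm0, perm0, perm0, perm1, perm0] 1) 1 &&
    !Nat.beq (trace [perm0, perm0, perm1, perm0, perm1, perm1, perm0, perm0, perm0] 1) (trace [perm1, perm1, perm0, perm0, perm0, perm0, perm0, perm1, perm0] 1)) = true := by decide +kernel

end CfsgLib.SporadicB.J3.Data
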